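import Mathlib

set_option autoImplicit false
set_option linter.unusedSectionVars false
set_option linter.unusedVariables false

/-! Generic Bruhat decomposition from root group data ("RGD ⇒ BN-pair"): definitions.

`R` is a type of NAMES of roots; a root may have two names (`alt r` is the other name of `r`,
`alt r = r` if there is only one), as for the roots `ε_a - ε_b = ε_{-b} - ε_{-a}` of the orthogonal
groups. `U r` is the root subgroup, `nS s` (for a simple root `s`) the set of the elements `n_s(u)`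
(`= w_s(u)` in a Steinberg group), `T` the torus. -/

namespace Cfsg.Agent.RGD

/-- root group datum -/
structure Datum (M : Type*) [Group M] (R : Type*) where
  /-- root subgroups -/
  U : R → Subgroup M
  /-- the opposite root -/
  neg : R → R
  /-- the other name of the same root -/
  alt : R → R
  /-- positive roots -/
  Pos : R → Prop
  /-- simple roots -/
  Simple : R → Prop
  /-- the reflection in a (simple) root, acting on the names -/
  refl : R → Equiv.Perm R
  /-- the elements `n_s(u)` attached to a simple root -/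
  nS : R → Set M
  /-- the torus -/
  T : Subgroup M

variable {M : Type*} [Group M] {R : Type*}

namespace Datum

variable (D : Datum M R)

/-- `Û`: generated by the positive root subgroups -/
def Uh : Subgroup M := Subgroup.closure {g | ∃ r, D.Pos r ∧ g ∈ D.U r}

/-- `Û_s`: generated by the positive root subgroups other than that of `s` -/
def UhE (s : R) : Subgroup M :=
  Subgroup.closure {g | ∃ r, D.Pos r ∧ r ≠ s ∧ r ≠ D.alt s ∧ g ∈ D.U r}

/-- `B̂ = Û T` -/
def Bh : Subgroup M := D.Uh ⊔ D.T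

/-- `N̂`: generated by the torus and the `n_s(u)`, `s` simple -/
def Nh : Subgroup M := Subgroup.closure ((D.T : Set M) ∪ {g | ∃ s, D.Simple s ∧ g ∈ D.nS s})

/-- the set `B̂ N̂ B̂` -/
def BNB : Set M := {x | ∃ b ∈ D.Bh, ∃ m ∈ D.Nh, ∃ b' ∈ D.Bh, x = b * m * b'}

/-- `g` permutes the root subgroups -/
def RootP (g : M) : Prop :=
  ∃ σ : Equiv.Perm R, (∀ r, σ (D.neg r) = D.neg (σ r)) ∧ (∀ r, σ (D.alt r) = D.alt (σ r)) ∧
    ∀ r, ∀ x ∈ D.U r, g * x * g⁻¹ ∈ D.U (σ r)

end Datum

/-- the axioms -/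
structure IsRGD (D : Datum M R) : Prop where
  neg_neg : ∀ r, D.neg (D.neg r) = r
  alt_alt : ∀ r, D.alt (D.alt r) = r
  neg_alt : ∀ r, D.neg (D.alt r) = D.alt (D.neg r)
  U_alt : ∀ r, D.U (D.alt r) = D.U r
  pos_neg : ∀ r, D.Pos (D.neg r) ↔ ¬ D.Pos r
  pos_alt : ∀ r, D.Pos (D.alt r) ↔ D.Pos r
  simple_pos : ∀ s, D.Simple s → D.Pos s
  refl_self : ∀ s, D.Simple s → D.refl s s = D.neg s
  refl_refl : ∀ s, D.Simple s → ∀ r, D.refl s (D.refl s r) = r
  refl_neg : ∀ s, D.Simple s → ∀ r, D.refl s (D.neg r) = D.neg (D.refl s r)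
  refl_alt : ∀ s, D.Simple s → ∀ r, D.refl s (D.alt r) = D.alt (D.refl s r)
  /-- a simple reflection permutes the other positive roots -/
  refl_pos : ∀ s, D.Simple s → ∀ r, D.Pos r → r ≠ s → r ≠ D.alt s → D.Pos (D.refl s r)
  /-- the torus normalizes the root subgroups -/
  T_conj : ∀ t ∈ D.T, ∀ r, ∀ x ∈ D.U r, t * x * t⁻¹ ∈ D.U r
  /-- `n_s(u)` permutes the root subgroups as the reflection does -/
  nS_conj : ∀ s, D.Simple s → ∀ n ∈ D.nS s, ∀ r, ∀ x ∈ D.U r, n * x * n⁻¹ ∈ D.U (D.refl s r)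
  nS_inv : ∀ s, D.Simple s → ∀ n ∈ D.nS s, n⁻¹ ∈ D.nS s
  /-- the rank one relation -/
  rank_one : ∀ s, D.Simple s → ∀ x ∈ D.U (D.neg s), x ≠ 1 →
    ∃ y ∈ D.U s, ∃ n ∈ D.nS s, ∃ y' ∈ D.U s, x = y * n * y'
  /-- the commutator relations: `U_s` normalizes `Û_s` -/
  comm : ∀ s, D.Simple s → ∀ z ∈ D.U s, ∀ r, D.Pos r → r ≠ s → r ≠ D.alt s → ∀ x ∈ D.U r,
    z * x * z⁻¹ ∈ D.UhE s
  /-- the simple root subgroups and their opposites generate -/
  gen : Subgroup.closure {g | ∃ s, D.Simple s ∧ (g ∈ D.U s ∨ g ∈ D.U (D.neg s))} = ⊤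

end Cfsg.Agent.RGD
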