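import Mathlib
import Cfsg.Agent.Helper2.RGD.Defs
import Cfsg.Agent.Helper24.RGDGBDECOMP
import Cfsg.Agent.Helper1.RGDGBNBSTEP
import Cfsg.Agent.Helper24.RGDGREACH
import Cfsg.Agent.Helper26.RGDGROOTP
import Cfsg.Agent.Helper26.RGDGUDECOMP
import Cfsg.Agent.Helper26.RGDGUNORM

set_option autoImplicit false
set_option linter.unusedSectionVars false
set_option linter.unusedVariables false

/-! Generic Bruhat decomposition: `M = B̂ N̂ B̂` for a root group datum. -/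

namespace Cfsg.Agent.RGD

variable {M : Type*} [Group M] {R : Type*} {D : Datum M R}

theorem mul_mem_BNB {b₀ x : M} (hb : b₀ ∈ D.Bh) (hx : x ∈ D.BNB) : b₀ * x ∈ D.BNB := by
  obtain ⟨b, hb1, m, hm, b', hb', rfl⟩ := hx
  exact ⟨b₀ * b, Subgroup.mul_mem _ hb hb1, m, hm, b', hb', by group⟩

/-- the Bruhat decomposition -/
theorem mem_BNB (hD : IsRGD D) (x : M) : x ∈ D.BNB := by
  have hx : x ∈ Subgroup.closure ((D.Bh : Set M) ∪ {g | ∃ s, D.Simple s ∧ g ∈ D.nS s}) := by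
    rw [closure_Bh_nS hD]; exact Subgroup.mem_top _
  induction hx using Subgroup.closure_induction_left with
  | one => exact ⟨1, Subgroup.one_mem _, 1, Subgroup.one_mem _, 1, Subgroup.one_mem _, by simp⟩
  | mul_left x hx y _ ih =>
    rcases hx with hx | ⟨s, hs, hn⟩
    · exact mul_mem_BNB hx ih
    · exact nS_mul_mem_BNB hD hs hn ih
  | inv_mul_cancel x hx y _ ih =>
    rcases hx with hx | ⟨s, hs, hn⟩
    · exact mul_mem_BNB (Subgroup.inv_mem _ hx) ih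
    · exact nS_mul_mem_BNB hD hs (hD.nS_inv s hs x hn) ih

/-- every element is `u k m k' u'` -/
theorem exists_decomp (hD : IsRGD D) (x : M) :
    ∃ u ∈ D.Uh, ∃ k ∈ D.T, ∃ m ∈ D.Nh, ∃ u' ∈ D.Uh, ∃ k' ∈ D.T, x = u * k * m * (u' * k') := by
  obtain ⟨b, hb, m, hm, b', hb', rfl⟩ := mem_BNB hD x
  obtain ⟨u, hu, k, hk, rfl⟩ := exists_of_mem_Bh hD hb
  obtain ⟨u', hu', k', hk', rfl⟩ := exists_of_mem_Bh hD hb'
  exact ⟨u, hu, k, hk, m, hm, u', hu', k', hk', rfl⟩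

end Cfsg.Agent.RGD
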